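import Cfsg.Agent.Lib.ChevCore.GoodAll
import Cfsg.Agent.Lib.ChevCore.Elements

/-!
Graph automorphisms of simply laced data: a signed permutation of the Chevalley basis that carries the
tables to themselves conjugates `x_r(t)` to `x_{ρ r}(ε_r t)`.
-/

set_option autoImplicit false

namespace Cfsg.Agent.ChevGroup.Graph

open Cfsg.Lie

/-- A permutation of the roots, one of the fundamental roots and a sign for each root. -/
structure Data where
  rho : List ℕ
  pI : List ℕ
  eps : List ℤ

namespace Data

variable (P : Data) (D : ChevalleyDatum)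

/-- the image of a root -/
def ρf (r : ℕ) : ℕ := P.rho.getD r 0

/-- the image of a fundamental root -/
def πf (i : ℕ) : ℕ := P.pI.getD i 0

/-- the sign of a root -/
def ef (r : ℕ) : ℤ := P.eps.getD r 1

/-- the image of the `k`-th entry of a chain through `s` in direction `r` -/
def mapEntry (r s : ℕ) (e : (ℕ × ℤ) × ℕ) : ℕ × ℤ :=
  (P.ρf e.1.1, P.ef e.1.1 * e.1.2 * P.ef r ^ (e.2 + 1) * P.ef s)

/-- the certificate -/
def checkB : Bool :=
  decide (((List.range D.nroots).map P.ρf).Nodup) &&
  decide (((List.range D.rank).map P.πf).Nodup) &&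
  ((List.range D.rank).all fun i => decide (P.πf i < D.rank) &&
    decide (P.ρf (D.simple i) = D.simple (P.πf i)) && decide (P.ef (D.simple i) = 1)) &&
  (List.range D.nroots).all fun r =>
    decide (P.ρf r < D.nroots) && decide (P.ρf (D.neg r) = D.neg (P.ρf r)) &&
    decide (P.ef r * P.ef r = 1) && decide (P.ef (D.neg r) = P.ef r) &&
    ((List.range D.rank).all fun i =>
      decide (D.cartan (P.πf i) (P.ρf r) = D.cartan i r) &&
      decide ((D.coroot.getD (P.ρf r) #[]).getD (P.πf i) 0 = (D.coroot.getD r #[]).getD i 0)) &&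
    (List.range D.nroots).all fun s =>
      decide (D.chainEntry (P.ρf r) (P.ρf s) = (D.chainEntry r s).zipIdx.map (P.mapEntry r s)) &&
      (D.chainEntry r s).all fun e => decide (e.1 < D.nroots)

variable {P D}

structure Ok (P : Data) (D : ChevalleyDatum) : Prop where
  nodup : ((List.range D.nroots).map P.ρf).Nodup
  nodupI : ((List.range D.rank).map P.πf).Nodup
  simple : ∀ i < D.rank, P.πf i < D.rank ∧ P.ρf (D.simple i) = D.simple (P.πf i) ∧ P.ef (D.simple i) = 1
  root : ∀ r < D.nroots, P.ρf r < D.nroots ∧ P.ρf (D.neg r) = D.neg (P.ρf r) ∧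
    P.ef r * P.ef r = 1 ∧ P.ef (D.neg r) = P.ef r ∧
    (∀ i < D.rank, D.cartan (P.πf i) (P.ρf r) = D.cartan i r ∧
      (D.coroot.getD (P.ρf r) #[]).getD (P.πf i) 0 = (D.coroot.getD r #[]).getD i 0) ∧
    ∀ s < D.nroots, D.chainEntry (P.ρf r) (P.ρf s) = (D.chainEntry r s).zipIdx.map (P.mapEntry r s) ∧
      ∀ e ∈ D.chainEntry r s, e.1 < D.nroots

lemma ok_of_checkB (h : P.checkB D = true) : Ok P D := by
  simp only [checkB, Bool.and_eq_true, List.all_eq_true, decide_eq_true_eq, List.mem_range] at h
  obtain ⟨⟨⟨h1, h2⟩, h3⟩, h4⟩ := h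
  refine ⟨h1, h2, fun i hi => ⟨(h3 i hi).1.1, (h3 i hi).1.2, (h3 i hi).2⟩, fun r hr => ?_⟩
  obtain ⟨⟨⟨⟨⟨a, b⟩, c⟩, d⟩, e⟩, f⟩ := h4 r hr
  exact ⟨a, b, c, d, e, f⟩

namespace Ok

variable (h : Ok P D)

/-- the permutation of the coordinates -/
def perm : D.Idx → D.Idx
  | Sum.inl i => Sum.inl ⟨P.πf i.val, (h.simple i.val i.isLt).1⟩
  | Sum.inr r => Sum.inr ⟨P.ρf r.val, (h.root r.val r.isLt).1⟩

/-- the signs of the coordinates -/
def sgn (P : Data) (D : ChevalleyDatum) (F : Type*) [Field F] : D.Idx → F
  | Sum.inl _ => 1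
  | Sum.inr r => (P.ef r.val : F)

lemma perm_inj : Function.Injective h.perm := by
  rintro (i | r) (j | s) e <;> simp only [perm, Sum.inl.injEq, Sum.inr.injEq, reduceCtorEq, Fin.mk.injEq] at e
  · exact congrArg _ (Fin.ext (List.inj_on_of_nodup_map h.nodupI (List.mem_range.2 i.isLt)
      (List.mem_range.2 j.isLt) e))
  · exact congrArg _ (Fin.ext (List.inj_on_of_nodup_map h.nodup (List.mem_range.2 r.isLt)
      (List.mem_range.2 s.isLt) e))

variable {F : Type*} [Field F]

include h in
lemma sgn_sq (a : D.Idx) : sgn P D F a * sgn P D F a = 1 := by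
  rcases a with i | r
  · simp [sgn]
  · simp only [sgn]
    rw [← Int.cast_mul, (h.root r.val r.isLt).2.2.1, Int.cast_one]

include h in
lemma entry (hG : ChevCore.Good D) (r : Fin D.nroots) (t : F) (a b : D.Idx) :
    D.xMat F ⟨P.ρf r.val, (h.root r.val r.isLt).1⟩ ((P.ef r.val : F) * t) (h.perm a) (h.perm b) *
        sgn P D F b = sgn P D F a * D.xMat F r t a b := by
  obtain ⟨-, hneg, hsq, hsneg, hI, hch⟩ := h.root r.val r.isLt
  have hsqF : (P.ef r.val : F) * (P.ef r.val : F) = 1 := by
    rw [← Int.cast_mul, hsq, Int.cast_one]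
  have hiff : ∀ s : Fin D.nroots, (⟨P.ρf s.val, (h.root s.val s.isLt).1⟩ : Fin D.nroots) =
      ⟨P.ρf r.val, (h.root r.val r.isLt).1⟩ ↔ s = r := fun s =>
    ⟨fun e => Fin.ext (List.inj_on_of_nodup_map h.nodup (List.mem_range.2 s.isLt)
      (List.mem_range.2 r.isLt) (congrArg Fin.val e)), fun e => by subst e; rfl⟩
  have hnlt : D.neg r.val < D.nroots := hG.neg_lt r.isLt
  have hiffn : ∀ s : Fin D.nroots, P.ρf s.val = D.negIdx.getD (P.ρf r.val) 0 ↔
      s.val = D.negIdx.getD r.val 0 := fun s => by
    show P.ρf s.val = D.neg (P.ρf r.val) ↔ s.val = D.neg r.val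
    rw [← hneg]
    exact ⟨fun e => List.inj_on_of_nodup_map h.nodup (List.mem_range.2 s.isLt)
      (List.mem_range.2 hnlt) e, fun e => by rw [e]⟩
  have hiff2 : ∀ u s : Fin D.nroots, (⟨P.ρf u.val, (h.root u.val u.isLt).1⟩ : Fin D.nroots) =
      ⟨P.ρf s.val, (h.root s.val s.isLt).1⟩ ↔ u = s := fun u s =>
    ⟨fun e => Fin.ext (List.inj_on_of_nodup_map h.nodup (List.mem_range.2 u.isLt)
      (List.mem_range.2 s.isLt) (congrArg Fin.val e)), fun e => by subst e; rfl⟩
  have hiffI : ∀ i j : Fin D.rank, (⟨P.πf i.val, (h.simple i.val i.isLt).1⟩ : Fin D.rank) =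
      ⟨P.πf j.val, (h.simple j.val j.isLt).1⟩ ↔ i = j := fun i j =>
    ⟨fun e => Fin.ext (List.inj_on_of_nodup_map h.nodupI (List.mem_range.2 i.isLt)
      (List.mem_range.2 j.isLt) (congrArg Fin.val e)), fun e => by subst e; rfl⟩
  rcases b with j | s
  · rcases a with i | u
    · simp [ChevalleyDatum.xMat, Ok.perm, sgn, hiffI]
    · simp only [ChevalleyDatum.xMat, Ok.perm, sgn, Matrix.of_apply, hiff, mul_one]
      by_cases hu : u = r
      · subst hu
        have e : (((D.cartanSR.getD (P.πf j.val) #[]).getD (P.ρf u.val) 0 : ℤ) : F) =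
            (((D.cartanSR.getD j.val #[]).getD u.val 0 : ℤ) : F) :=
          congrArg Int.cast (hI j.val j.isLt).1
        simp only [if_true, e]
        ring
      · simp [hu]
  · by_cases hs : s = r
    · subst hs
      rcases a with i | u
      · simp [ChevalleyDatum.xMat, Ok.perm, sgn]
      · by_cases hu : u = s
        · subst hu; simp [ChevalleyDatum.xMat, Ok.perm, sgn]
        · simp [ChevalleyDatum.xMat, Ok.perm, sgn, hiff, hu]
    · by_cases hn : s.val = D.negIdx.getD r.val 0
      · have hes : P.ef s.val = P.ef r.val := by rw [hn]; exact hsneg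
        rcases a with i | u
        · simp only [ChevalleyDatum.xMat, Ok.perm, sgn, Matrix.of_apply, hiff, hs, if_false, hiffn,
            if_pos hn, (hI i.val i.isLt).2, hes, one_mul]
          rw [mul_assoc, mul_right_comm _ t, hsqF, one_mul]
        · simp only [ChevalleyDatum.xMat, Ok.perm, sgn, Matrix.of_apply, hiff, hs, if_false, hiffn,
            if_pos hn, hiff2, hes]
          by_cases hus : u = s
          · subst hus; simp [hes]
          · rw [if_neg hus, if_neg hus]
            by_cases hur : u = r
            · subst hur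
              simp only [if_true, mul_pow, pow_two, hsqF, one_mul]
              linear_combination (-(t ^ 2) * (P.ef u.val : F)) * hsqF
            · simp [hur]
      · rcases a with i | u
        · simp only [ChevalleyDatum.xMat, Ok.perm, sgn, Matrix.of_apply, hiff, hs, if_false, hiffn,
            if_neg hn, zero_mul, mul_zero]
        · simp only [ChevalleyDatum.xMat, Ok.perm, sgn, Matrix.of_apply, hiff, hs, if_false, hiffn,
            if_neg hn, hiff2]
          rw [add_mul, mul_add]
          congr 1
          · by_cases hus : u = s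
            · subst hus; simp
            · simp [hus]
          · obtain ⟨hc, hlt⟩ := hch s.val s.isLt
            rw [ChevCore.chainCoeff_eq hG, ChevCore.chainCoeff_eq hG, hc]
            clear hc
            revert hlt
            generalize D.chainEntry r.val s.val = L
            intro hlt
            rw [List.map_map, List.map_map]
            -- walk along the chain
            suffices key : ∀ (L : List (ℕ × ℤ)) (k : ℕ), (∀ e ∈ L, e.1 < D.nroots) →
                (((((L.zipIdx k).map (P.mapEntry r.val s.val)).zipIdx k).filter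
                    fun q => decide (q.1.1 = P.ρf u.val)).map fun q =>
                      ((q.1.2 : ℤ) : F) * ((P.ef r.val : F) * t) ^ (q.2 + 1)).sum * (P.ef s.val : F) =
                  (P.ef u.val : F) * (((L.zipIdx k).filter fun q => decide (q.1.1 = u.val)).map fun q =>
                      ((q.1.2 : ℤ) : F) * t ^ (q.2 + 1)).sum by
              simpa [Function.comp_def] using key L 0 hlt
            intro L
            induction L with
            | nil => intro k _; simp
            | cons e L ih =>
              intro k hlt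
              have ih' := ih (k + 1) fun x hx => hlt x (List.mem_cons_of_mem _ hx)
              have he := hlt e (List.mem_cons_self ..)
              simp only [List.zipIdx_cons, List.map_cons, List.filter_cons]
              by_cases heu : e.1 = u.val
              · have hd : decide ((P.mapEntry r.val s.val (e, k)).1 = P.ρf u.val) = true :=
                  decide_eq_true (by simp [mapEntry, heu])
                rw [if_pos hd, if_pos (decide_eq_true heu), List.map_cons, List.sum_cons, add_mul,
                  List.map_cons, List.sum_cons, mul_add, ih']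
                congr 1
                simp only [mapEntry, heu]
                push_cast
                have hpow : (P.ef r.val : F) ^ (k + 1) * (P.ef r.val : F) ^ (k + 1) = 1 := by
                  rw [← mul_pow, hsqF, one_pow]
                have hssq : (P.ef s.val : F) * (P.ef s.val : F) = 1 := by
                  rw [← Int.cast_mul, (h.root s.val s.isLt).2.2.1, Int.cast_one]
                rw [mul_pow]
                calc _ = (P.ef u.val : F) * (e.2 : F) * t ^ (k + 1) *
                    ((P.ef r.val : F) ^ (k + 1) * (P.ef r.val : F) ^ (k + 1)) *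
                      ((P.ef s.val : F) * (P.ef s.val : F)) := by ring
                  _ = _ := by rw [hpow, hssq]; ring
              · have hne : ¬ decide ((P.mapEntry r.val s.val (e, k)).1 = P.ρf u.val) = true := by
                  rw [decide_eq_true_eq]
                  exact fun e' => heu (List.inj_on_of_nodup_map h.nodup (List.mem_range.2 he)
                    (List.mem_range.2 u.isLt) e')
                rw [if_neg hne, if_neg (by simpa using heu)]
                exact ih'

/-- the signed permutation matrix -/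
noncomputable def mono (h : Ok P D) (F : Type*) [Field F] : GL D.Idx F where
  val := Matrix.of fun a b => if a = h.perm b then sgn P D F b else 0
  inv := Matrix.of fun b a => if a = h.perm b then sgn P D F b else 0
  val_inv := by
    have hb : Function.Bijective h.perm := Finite.injective_iff_bijective.1 h.perm_inj
    ext a a'
    obtain ⟨b, rfl⟩ := hb.2 a
    obtain ⟨b', rfl⟩ := hb.2 a'
    rw [Matrix.mul_apply, Finset.sum_eq_single b]
    · by_cases e : b = b'
      · subst e; simp [h.sgn_sq]
      · simp [h.perm_inj.eq_iff, e, Ne.symm e]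
    · intro c _ hc; simp [h.perm_inj.eq_iff, hc.symm]
    · simp
  inv_val := by
    ext b b'
    rw [Matrix.mul_apply, Finset.sum_eq_single (h.perm b)]
    · by_cases e : b = b'
      · subst e; simp [h.sgn_sq]
      · simp [h.perm_inj.eq_iff, e]
    · intro c _ hc; simp [hc]
    · simp

lemma mono_conj (hG : ChevCore.Good D) {r : ℕ} (hr : r < D.nroots) (t : F) :
    (h.mono F : Matrix D.Idx D.Idx F) * D.x F r t =
      D.x F (P.ρf r) ((P.ef r : F) * t) * (h.mono F : Matrix D.Idx D.Idx F) := by
  rw [ChevalleyDatum.x, dif_pos hr, ChevalleyDatum.x, dif_pos (h.root r hr).1]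
  have hb : Function.Bijective h.perm := Finite.injective_iff_bijective.1 h.perm_inj
  ext a' b
  obtain ⟨a, rfl⟩ := hb.2 a'
  rw [Matrix.mul_apply, Matrix.mul_apply, Finset.sum_eq_single a, Finset.sum_eq_single (h.perm b)]
  · simp only [mono, Matrix.of_apply, if_true]
    exact (h.entry hG ⟨r, hr⟩ t a b).symm
  · intro c _ hc; simp [mono, hc]
  · simp
  · intro c _ hc; simp [mono, h.perm_inj.eq_iff, hc.symm]
  · simp

end Ok

end Data

/-- The graph automorphism of the group. -/
theorem exists_aut {D : ChevalleyDatum} (hG : ChevCore.Good D) {P : Data} (hP : P.checkB D = true)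
    (F : Type*) [Field F] :
    ∃ α : ↥(D.group F) ≃* ↥(D.group F), ∀ (g : ↥(D.group F)) (r : ℕ) (t : F), r < D.nroots →
      ((g : GL D.Idx F) : Matrix D.Idx D.Idx F) = D.x F r t →
        ((α g : GL D.Idx F) : Matrix D.Idx D.Idx F) = D.x F (P.ρf r) ((P.ef r : F) * t) := by
  have h := Data.ok_of_checkB hP
  set c := MulAut.conj (h.mono F) with hc
  have hx : ∀ r, r < D.nroots → ∀ t, c (ChevCore.xg D F r t) = ChevCore.xg D F (P.ρf r) ((P.ef r : F) * t) := by
    intro r hr t
    rw [hc, MulAut.conj_apply, mul_inv_eq_iff_eq_mul]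
    refine Units.ext ?_
    rw [Units.val_mul, Units.val_mul, hG.val_xg, hG.val_xg]
    exact h.mono_conj hG hr t
  have hgen : ∀ g : GL D.Idx F, (∃ (r : Fin D.nroots) (t : F), (g : Matrix D.Idx D.Idx F) = D.xMat F r t) ↔
      ∃ r t, r < D.nroots ∧ g = ChevCore.xg D F r t := by
    intro g
    constructor
    · rintro ⟨r, t, e⟩
      exact ⟨r.val, t, r.isLt, Units.ext (by rw [e, hG.val_xg, ChevalleyDatum.x, dif_pos r.isLt])⟩
    · rintro ⟨r, t, hr, rfl⟩
      exact ⟨⟨r, hr⟩, t, by rw [hG.val_xg, ChevalleyDatum.x, dif_pos hr]⟩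
  have himg : (D.group F).map c.toMonoidHom = D.group F := by
    rw [ChevalleyDatum.group, MonoidHom.map_closure]
    congr 1
    ext g
    simp only [Set.mem_image, Set.mem_setOf_eq, hgen]
    constructor
    · rintro ⟨_, ⟨r, t, hr, rfl⟩, rfl⟩
      exact ⟨_, _, (h.root r hr).1, hx r hr t⟩
    · rintro ⟨s, t, hs, rfl⟩
      obtain ⟨b, hb⟩ := (Finite.injective_iff_bijective.1 h.perm_inj).2 (Sum.inr ⟨s, hs⟩)
      rcases b with i | r
      · simp [Data.Ok.perm] at hb
      · simp only [Data.Ok.perm, Sum.inr.injEq, Fin.mk.injEq] at hb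
        refine ⟨_, ⟨r.val, (P.ef r.val : F) * t, r.isLt, rfl⟩, ?_⟩
        show c _ = _
        rw [hx r.val r.isLt, hb, ← mul_assoc, ← Int.cast_mul, (h.root r.val r.isLt).2.2.1, Int.cast_one,
          one_mul]
  refine ⟨(c.subgroupMap (D.group F)).trans (MulEquiv.subgroupCongr himg), fun g r t hr hg => ?_⟩
  have e : (g : GL D.Idx F) = ChevCore.xg D F r t := Units.ext (by rw [hg, hG.val_xg])
  show ((c (g : GL D.Idx F) : GL D.Idx F) : Matrix D.Idx D.Idx F) = _
  rw [e, hx r hr, hG.val_xg]

end Cfsg.Agent.ChevGroup.Graph
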